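import Mathlib.Algebra.MvPolynomial.Eval
import Mathlib.Algebra.Polynomial.Div
import Mathlib.RingTheory.Polynomial.Quotient
import Mathlib.RingTheory.Flat.TorsionFree
import Mathlib.RingTheory.IntegralClosure.IsIntegralClosure.Basic
import Mathlib.RingTheory.IntegralClosure.Algebra.Basic
import Mathlib.RingTheory.Ideal.Operations
import Mathlib.FieldTheory.IsAlgClosed.Basic
import Mathlib.RingTheory.RingHom.Flat
import Mathlib.RingTheory.RingHom.Finite
import Mathlib.Tactic.LinearCombination
import Mathlib.Tactic.Algebraize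

/-!
# Pulling apart a punctual ideal: the family `(f, (y - t) 𝔟)`
-/

universe u

open Polynomial

namespace Groth.Agent.PullApart

variable {k A : Type u} [Field k] [CommRing A] [Algebra k A]

/-- The ideal `(f) + (y - t) 𝔟[t]`. -/
noncomputable def family (f y : A) (𝔟 : Ideal A) : Ideal A[X] :=
  Ideal.span {C f} ⊔ Ideal.span {C y - X} * 𝔟.map C

theorem map_family (f y c : A) (𝔟 : Ideal A) :
    (family f y 𝔟).map (evalRingHom c) = Ideal.span {f} ⊔ Ideal.span {y - c} * 𝔟 := by
  have h : (evalRingHom c).comp (C : A →+* A[X]) = RingHom.id A := RingHom.ext fun a => by simp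
  simp [family, Ideal.map_sup, Ideal.map_mul, Ideal.map_span, Ideal.map_map, h]

theorem mem_map_C_of_monic_mul {𝔟 : Ideal A} {g v : A[X]} (hg : g.Monic) (h : g * v ∈ 𝔟.map C) :
    v ∈ 𝔟.map C := by
  rw [← Ideal.mk_ker (I := 𝔟), ← Polynomial.ker_mapRingHom, RingHom.mem_ker] at h ⊢
  rw [map_mul] at h
  exact (hg.map _).mul_right_eq_zero_iff.1 h

/-- Torsion-freeness over `k[t]`. -/
theorem mem_family_of_mul {f y : A} {𝔟 : Ideal A} (hf : f ∈ 𝔟) (hfr : IsLeftRegular f)
    (hreg : ∀ g : k[X], g ≠ 0 → ∀ v, f ∣ aeval y g * v → f ∣ v)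
    {g : k[X]} (hg : g.Monic) {v : A[X]} (h : g.map (algebraMap k A) * v ∈ family f y 𝔟) :
    v ∈ family f y 𝔟 := by
  obtain ⟨p1, hp1, p2, hp2, hsum⟩ := Submodule.mem_sup.1 h
  obtain ⟨u, rfl⟩ := Ideal.mem_span_singleton'.1 hp1
  obtain ⟨w, hw, rfl⟩ := Ideal.mem_span_singleton_mul.1 hp2
  have h1 := congrArg (Polynomial.eval y) hsum
  simp only [eval_add, eval_mul, eval_C, eval_sub, eval_X, sub_self, zero_mul, add_zero,
    eval_map_algebraMap] at h1
  obtain ⟨q, hq⟩ := hreg g hg.ne_zero (v.eval y) ⟨u.eval y, by rw [← h1, mul_comm]⟩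
  obtain ⟨v', hv'⟩ : X - C y ∣ v - C (f * q) := by
    rw [dvd_iff_isRoot, IsRoot, eval_sub, eval_C, hq, sub_self]
  obtain ⟨u', hu'⟩ : X - C y ∣ g.map (algebraMap k A) * C q - u := by
    rw [dvd_iff_isRoot, IsRoot, eval_sub, eval_mul, eval_C, eval_map_algebraMap]
    refine hfr ?_
    show f * _ = f * 0
    rw [mul_zero, mul_sub, mul_left_comm, ← hq, ← h1]
    ring
  have hv : v = C f * C q + (X - C y) * v' := by rw [← map_mul, ← hv']; ring
  have hu : u = g.map (algebraMap k A) * C q - (X - C y) * u' := by rw [← hu']; ring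
  have key : g.map (algebraMap k A) * v' + C f * u' = -w := by
    refine (monic_X_sub_C y).isRegular.left ?_
    show (X - C y) * _ = (X - C y) * _
    rw [hv, hu] at hsum
    linear_combination -hsum
  have hgv : g.map (algebraMap k A) * v' ∈ 𝔟.map C := by
    rw [eq_sub_of_add_eq key]
    exact sub_mem (neg_mem hw) (Ideal.mul_mem_right _ _ (Ideal.mem_map_of_mem C hf))
  refine hv ▸ Submodule.add_mem _ (Submodule.mem_sup_left (Ideal.mul_mem_right _ _ (Ideal.mem_span_singleton_self _)))
    (Submodule.mem_sup_right ?_)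
  rw [show (X - C y) * v' = (C y - X) * (-v') by ring]
  exact Ideal.mul_mem_mul (Ideal.mem_span_singleton_self _) (neg_mem (mem_map_C_of_monic_mul (hg.map _) hgv))

theorem flat_family {f y : A} {𝔟 : Ideal A} (hf : f ∈ 𝔟) (hfr : IsLeftRegular f)
    (hreg : ∀ g : k[X], g ≠ 0 → ∀ v, f ∣ aeval y g * v → f ∣ v) :
    RingHom.Flat ((Ideal.Quotient.mk (family f y 𝔟)).comp (mapRingHom (algebraMap k A))) := by
  let φ : k[X] →+* A[X] ⧸ family f y 𝔟 := (Ideal.Quotient.mk (family f y 𝔟)).comp (mapRingHom (algebraMap k A))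
  algebraize [φ]
  show Module.Flat k[X] (A[X] ⧸ family f y 𝔟)
  haveI : Module.IsTorsionFree k[X] (A[X] ⧸ family f y 𝔟) := by
    rw [Module.isTorsionFree_iff_smul_eq_zero]
    intro g m hm
    obtain ⟨v, rfl⟩ := Ideal.Quotient.mk_surjective m
    rcases eq_or_ne g 0 with hg | hg
    · exact Or.inl hg
    refine Or.inr (Ideal.Quotient.eq_zero_iff_mem.2 ?_)
    rw [Algebra.smul_def] at hm
    have hm' : g.map (algebraMap k A) * v ∈ family f y 𝔟 := Ideal.Quotient.eq_zero_iff_mem.1 hm
    refine mem_family_of_mul hf hfr hreg (monic_mul_leadingCoeff_inv hg) ?_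
    rw [Polynomial.map_mul, mul_comm (g.map _), mul_assoc]
    exact Ideal.mul_mem_left _ _ hm'
  infer_instance

theorem finite_family {x y : A} (hadj : Algebra.adjoin k ({x, y} : Set A) = ⊤) {f : A} {𝔟 : Ideal A}
    {P : k[X][X]} (hP : P.Monic) (hPf : P.eval₂ (aeval y).toRingHom x = f) {N : ℕ} (hN : y ^ N ∈ 𝔟) :
    RingHom.Finite ((Ideal.Quotient.mk (family f y 𝔟)).comp (mapRingHom (algebraMap k A))) := by
  let φ : k[X] →+* A[X] ⧸ family f y 𝔟 := (Ideal.Quotient.mk (family f y 𝔟)).comp (mapRingHom (algebraMap k A))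
  algebraize [φ]
  show Module.Finite k[X] (A[X] ⧸ family f y 𝔟)
  let B := A[X] ⧸ family f y 𝔟
  let π : A →+* B := (Ideal.Quotient.mk (family f y 𝔟)).comp C
  have hC : ∀ c : k, π (algebraMap k A c) = algebraMap k[X] B (C c) := fun c => by
    show Ideal.Quotient.mk _ (C _) = Ideal.Quotient.mk _ ((C c).map _)
    rw [map_C]
  have hy : IsIntegral k[X] (π y) := by
    refine ⟨(X - C X) * X ^ N, (monic_X_sub_C _).mul (monic_X_pow N), ?_⟩
    rw [eval₂_mul, eval₂_sub, eval₂_X, eval₂_C, eval₂_pow, eval₂_X]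
    show (Ideal.Quotient.mk _ (C y) - Ideal.Quotient.mk _ (Polynomial.map _ X)) * (Ideal.Quotient.mk _ (C y)) ^ N = 0
    rw [map_X, ← map_sub, ← map_pow, ← map_mul, ← map_pow, Ideal.Quotient.eq_zero_iff_mem]
    exact Submodule.mem_sup_right (Ideal.mul_mem_mul (Ideal.mem_span_singleton_self _) (Ideal.mem_map_of_mem C hN))
  have hk : ∀ g : k[X], IsIntegral k[X] (π (aeval y g)) := fun g => by
    induction g using Polynomial.induction_on' with
    | add p q hp hq => rw [map_add, map_add]; exact hp.add hq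
    | monomial n c =>
      rw [aeval_monomial, map_mul, map_pow, hC]
      exact isIntegral_algebraMap.mul (hy.pow n)
  have hx : IsIntegral k[X] (π x) := by
    let ρ : k[X] →+* integralClosure k[X] B := RingHom.codRestrict (π.comp (aeval y).toRingHom) _ hk
    refine isIntegral_trans (A := integralClosure k[X] B) (π x) ⟨P.map ρ, hP.map ρ, ?_⟩
    rw [eval₂_map]
    have h1 : (algebraMap (integralClosure k[X] B) B).comp ρ = π.comp (aeval y).toRingHom := RingHom.ext fun _ => rfl
    rw [h1, ← hom_eval₂, hPf]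
    exact Ideal.Quotient.eq_zero_iff_mem.2 (Submodule.mem_sup_left (Ideal.mem_span_singleton_self _))
  have hall : ∀ a : A, π a ∈ Algebra.adjoin k[X] ({π x, π y} : Set B) := fun a => by
    induction (show a ∈ Algebra.adjoin k ({x, y} : Set A) by rw [hadj]; trivial) using Algebra.adjoin_induction with
    | mem z hz =>
      refine Algebra.subset_adjoin ?_
      rcases hz with rfl | hz
      · exact Or.inl rfl
      · exact Or.inr (congrArg π hz)
    | algebraMap r => rw [hC]; exact Subalgebra.algebraMap_mem _ _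
    | add p q _ _ hp hq => rw [map_add]; exact add_mem hp hq
    | mul p q _ _ hp hq => rw [map_mul]; exact mul_mem hp hq
  have htop : Algebra.adjoin k[X] ({π x, π y} : Set B) = ⊤ := by
    refine _root_.eq_top_iff.2 fun b hb => ?_
    clear hb
    obtain ⟨v, rfl⟩ := Ideal.Quotient.mk_surjective b
    induction v using Polynomial.induction_on' with
    | add p q hp hq => rw [map_add]; exact add_mem hp hq
    | monomial n a =>
      rw [← C_mul_X_pow_eq_monomial, map_mul, map_pow]
      refine mul_mem (hall a) (pow_mem ?_ n)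
      have : (Ideal.Quotient.mk (family f y 𝔟) X : B) = algebraMap k[X] B X := by
        show _ = Ideal.Quotient.mk _ (Polynomial.map _ X)
        rw [map_X]
      rw [this]
      exact Subalgebra.algebraMap_mem _ _
  have hfg : (Algebra.adjoin k[X] ({π x, π y} : Set B)).toSubmodule.FG :=
    fg_adjoin_of_finite (Set.toFinite _) (by rintro z (rfl | rfl) <;> assumption)
  rw [htop] at hfg
  exact ⟨by simpa using hfg⟩

end Groth.Agent.PullApart
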